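import Cfsg.Agent.Lib.Helper16.B2F4.PartA
import Cfsg.Agent.Lib.Helper16.StCCB.Shapes

/-!
# S2400, case `B₂` over the field with three elements: generic lemmas

* `lifts_commute_pair_of_torus`: ANY lifts of two commuting root elements `x_r(t)`, `x_s(u)` commute
  when some torus element centralises `x_r` and moves `x_s`;
* `exists_partial_rootLift`: helper25's construction of equivariant additive lifts for the roots in
  a set `P` only;
* `Kap`: the calculus of `κ(t,u) = (A_t B_u)⁻¹ B_u A_t` for two additive families commuting with `κ`;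
* `star_shape12U`: the word identity `(*)` for the terms `[(q1,C1,1,1),(q2,C2,1,2)]` when `φ s` does
  NOT commute with `φ q1` (one-term relation into `q2`).
-/

set_option autoImplicit false

namespace Cfsg.Agent.Lib.Helper16.B2F3

open Cfsg.Lie Cfsg.Agent.Lib.Helper8.Chev Cfsg.Agent.Lib.Helper14.StCC
open Cfsg.Agent.Lib.Helper11.StCCPairing
open Cfsg.Agent.Lib.Helper26.StCC
open scoped commutatorElement

variable {D : ChevalleyDatum} {K : Type*} [Field K] {Γ : Type*} [Group Γ] {E : Type*} [Group E]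

/-- ANY lifts of two commuting root elements commute when a torus element centralises the first
root group and moves the second -/
theorem lifts_commute_pair_of_torus (S : StRep D K Γ) (ψ : E →* Γ) (hψ : Function.Surjective ψ)
    (hc : ψ.ker ≤ Subgroup.center E) {r s : ℕ} (hr : r < D.nroots) (hs : s < D.nroots)
    (hnil : ∀ t u : K, S.x r t * S.x s u = S.x s u * S.x r t)
    (m : ℕ → ℤ) (hm0 : wt D m r = 0) {v : K} (hv : v ≠ 0) (hb : v ^ wt D m s ≠ 1) :
    ∀ (A B : E) (t u : K), ψ A = S.x r t → ψ B = S.x s u → A * B = B * A := by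
  let X : K → E := fun t => Function.surjInv hψ (S.x r t)
  let Y : K → E := fun u => Function.surjInv hψ (S.x s u)
  have hX : ∀ t, ψ (X t) = S.x r t := fun t => Function.surjInv_eq hψ _
  have hY : ∀ u, ψ (Y u) = S.x s u := fun u => Function.surjInv_eq hψ _
  have hcen : ∀ t u, ⁅X t, Y u⁆ ∈ Subgroup.center E := fun t u =>
    comm_mem_center ψ hc (by rw [hX, hY]; exact hnil t u)
  have hadd : ∀ t u u', ⁅X t, Y (u + u')⁆ = ⁅X t, Y u⁆ * ⁅X t, Y u'⁆ := by
    intro t u u'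
    rw [← comm_mul_right ψ hc (by rw [hX, hY]; exact hnil t u')]
    apply comm_eq_of_map_eq ψ hc rfl
    rw [map_mul, hY, hY, hY, S.add s hs]
  have hzero : ∀ t, ⁅X t, Y 0⁆ = 1 := by
    intro t
    have h1 : ⁅X t, Y 0⁆ = ⁅X t, (1 : E)⁆ := by
      apply comm_eq_of_map_eq ψ hc rfl
      rw [hY, map_one, S.x_zero hs]
    rw [h1, commutatorElement_one_right]
  obtain ⟨g0, _, hg0⟩ := exists_torus S m hv
  obtain ⟨g, hg⟩ := hψ g0
  have hinv : ∀ t u, ⁅X t, Y (v ^ wt D m s * u)⁆ = ⁅X t, Y u⁆ := by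
    intro t u
    have h1 : g * ⁅X t, Y u⁆ * g⁻¹ = ⁅X t, Y u⁆ := by
      have := hcen t u
      rw [Subgroup.mem_center_iff] at this
      rw [this g, mul_inv_cancel_right]
    rw [← h1, conj_comm]
    apply comm_eq_of_map_eq ψ hc
    · rw [hX, map_mul, map_mul, map_inv, hX, hg, hg0 r hr, hm0, zpow_zero, one_mul]
    · rw [hY, map_mul, map_mul, map_inv, hY, hg, hg0 s hs]
  have hb1 : v ^ wt D m s - 1 ≠ 0 := sub_ne_zero.mpr hb
  have hk : ∀ t u, ⁅X t, Y u⁆ = 1 := by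
    intro t u
    have h1 := hadd t ((v ^ wt D m s) * (u / (v ^ wt D m s - 1))) (-(u / (v ^ wt D m s - 1)))
    have e : (v ^ wt D m s) * (u / (v ^ wt D m s - 1)) + -(u / (v ^ wt D m s - 1)) = u := by
      field_simp
      ring
    rw [e, hinv, ← hadd, add_neg_cancel, hzero] at h1
    exact h1
  intro A B t u hA hB
  have h1 : ⁅A, B⁆ = 1 := by
    rw [comm_eq_of_map_eq ψ hc (hA.trans (hX t).symm) (hB.trans (hY u).symm)]
    exact hk t u
  exact commutatorElement_eq_one_iff_mul_comm.mp h1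

/-- helper25's construction of equivariant additive lifts, for the roots in a set `P` only -/
theorem exists_partial_rootLift (S : StRep D K Γ)
    (hperf : commutator Γ = ⊤) (ψ : E →* Γ) (hψ : Function.Surjective ψ)
    (hc : ψ.ker ≤ Subgroup.center E) (P : ℕ → Prop)
    (hLC : ∀ r < D.nroots, P r → ∀ (A B : E) (t u : K), ψ A = S.x r t → ψ B = S.x r u →
      A * B = B * A)
    (htor : ∀ r < D.nroots, P r → ∃ (m : ℕ → ℤ) (v : K), v ≠ 0 ∧ v ^ wt D m r ≠ 1) :
    ∃ φ : ℕ → K → E, (∀ r < D.nroots, P r → ∀ t : K, ψ (φ r t) = S.x r t) ∧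
      (∀ r < D.nroots, P r → ∀ t u : K, φ r t * φ r u = φ r (t + u)) ∧
      (∀ (g : E) (f : ℕ → K), ψ g ∈ S.H0 →
        (∀ s < D.nroots, ∀ u : K, ψ g * S.x s u * (ψ g)⁻¹ = S.x s (f s * u)) →
        ∀ s < D.nroots, P s → ∀ u : K, g * φ s u * g⁻¹ = φ s (f s * u)) := by
  classical
  have hex : ∀ r : ℕ, ∃ (h : Γ) (b : K), (r < D.nroots ∧ P r) →
      (h ∈ S.H0 ∧ b ≠ 1 ∧ ∀ u : K, h * S.x r u * h⁻¹ = S.x r (b * u)) := by
    intro r
    by_cases hr : r < D.nroots ∧ P r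
    · obtain ⟨m, v, hv0, hv1⟩ := htor r hr.1 hr.2
      obtain ⟨g, hg, hgc⟩ := exists_torus S m hv0
      exact ⟨g, v ^ wt D m r, fun _ => ⟨hg, hv1, fun u => hgc r hr.1 u⟩⟩
    · exact ⟨1, 0, fun h => absurd h hr⟩
  choose hh bb hhb using hex
  have hb1 : ∀ r < D.nroots, P r → bb r - 1 ≠ 0 :=
    fun r hr hP => sub_ne_zero.mpr (hhb r ⟨hr, hP⟩).2.1
  have hmap : ∀ r < D.nroots, P r → ∀ t : K,
      ψ (pr ψ hψ (hh r) (S.x r (t / (bb r - 1)))) = S.x r t := by
    intro r hr hP t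
    rw [map_pr, commutatorElement_def, (hhb r ⟨hr, hP⟩).2.2, S.x_inv hr, S.add r hr]
    congr 1
    field_simp [hb1 r hr hP]
    ring
  refine ⟨fun r t => pr ψ hψ (hh r) (S.x r (t / (bb r - 1))), hmap, ?_, ?_⟩
  · intro r hr hP t u
    beta_reduce
    have e1 : S.x r ((t + u) / (bb r - 1)) =
        S.x r (t / (bb r - 1)) * S.x r (u / (bb r - 1)) := by
      rw [S.add r hr, add_div]
    obtain ⟨B, hB⟩ := hψ (S.x r (t / (bb r - 1)))
    rw [e1, pr_mul_right' ψ hψ hc (hh r) _ _ hB]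
    congr 1
    have h1 := hLC r hr hP B (pr ψ hψ (hh r) (S.x r (u / (bb r - 1)))) _ _ hB (hmap r hr hP u)
    rw [h1, mul_inv_cancel_right]
  · intro g f hg hf s hs hP u
    beta_reduce
    rw [conj_pr ψ hψ hc, hf s hs]
    have hz := Cfsg.Agent.Lib.Helper14.StCC.A.Helper25.conj_H0_eq_mul_central S hg
      (hhb s ⟨hs, hP⟩).1
    have e2 : ψ g * hh s * (ψ g)⁻¹ = hh s * ((hh s)⁻¹ * (ψ g * hh s * (ψ g)⁻¹)) := by group
    rw [e2, pr_mul_center_left ψ hψ hc hperf hz, mul_div_assoc]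

/-- over the field with three elements any two lifts of elements of one root group commute -/
theorem lifts_commute_three (S : StRep D K Γ) (hF3 : ∀ x : K, x = 0 ∨ x = 1 ∨ x = -1)
    (ψ : E →* Γ) (hc : ψ.ker ≤ Subgroup.center E) {r : ℕ} (hr : r < D.nroots) :
    ∀ (A B : E) (t u : K), ψ A = S.x r t → ψ B = S.x r u → A * B = B * A := by
  intro A B t u hA hB
  -- a lift of `1` is central
  have hcen : ∀ Z : E, ψ Z = 1 → ∀ y : E, Z * y = y * Z := by
    intro Z hZ y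
    have := hc (MonoidHom.mem_ker.mpr hZ)
    rw [Subgroup.mem_center_iff] at this
    exact (this y).symm
  -- equal images
  have heq : ∀ A B : E, ψ A = ψ B → A * B = B * A := by
    intro A B h
    have hz : ψ (B⁻¹ * A) = 1 := by rw [map_mul, map_inv, h, inv_mul_cancel]
    have h1 := hcen _ hz B
    calc A * B = B * (B⁻¹ * A) * B := by group
      _ = B * (B * (B⁻¹ * A)) := by rw [mul_assoc, h1]
      _ = B * A := by group
  have hinv : ∀ A B : E, ψ A = (ψ B)⁻¹ → A * B = B * A := by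
    intro A B h
    have h1 := heq A B⁻¹ (by rw [map_inv, h])
    calc A * B = B * (B⁻¹ * A) * B := by group
      _ = B * (A * B⁻¹) * B := by rw [h1]
      _ = B * A := by group
  rcases hF3 t with rfl | rfl | rfl
  · exact hcen A (by rw [hA, S.x_zero hr]) B
  · rcases hF3 u with rfl | rfl | rfl
    · exact (hcen B (by rw [hB, S.x_zero hr]) A).symm
    · exact heq A B (by rw [hA, hB])
    · exact hinv A B (by rw [hA, hB, S.x_inv hr, neg_neg])
  · rcases hF3 u with rfl | rfl | rfl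
    · exact (hcen B (by rw [hB, S.x_zero hr]) A).symm
    · exact hinv A B (by rw [hA, hB, S.x_inv hr])
    · exact heq A B (by rw [hA, hB])

/-! ## the calculus of `κ(t,u) = (A_t B_u)⁻¹ B_u A_t` -/

section kap

variable {φa φb : K → E}

/-- `κ(t,u) = (φa t * φb u)⁻¹ * (φb u * φa t)` -/
def kap (φa φb : K → E) (t u : K) : E := (φa t * φb u)⁻¹ * (φb u * φa t)

omit [Field K] in
theorem kap_spec (φa φb : K → E) (t u : K) : φb u * φa t = φa t * φb u * kap φa φb t u := by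
  unfold kap; group

theorem kap_mul_left_aux (A A' B : E)
    (h : ((A * B)⁻¹ * (B * A)) * A' = A' * ((A * B)⁻¹ * (B * A))) :
    (A * A' * B)⁻¹ * (B * (A * A')) = ((A' * B)⁻¹ * (B * A')) * ((A * B)⁻¹ * (B * A)) := by
  have h1 : B * A = A * B * ((A * B)⁻¹ * (B * A)) := by group
  have h2 : B * A' = A' * B * ((A' * B)⁻¹ * (B * A')) := by group
  calc (A * A' * B)⁻¹ * (B * (A * A')) = (A * A' * B)⁻¹ * ((B * A) * A') := by group
    _ = (A * A' * B)⁻¹ * (A * B * ((A * B)⁻¹ * (B * A)) * A') := by rw [← h1]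
    _ = (A * A' * B)⁻¹ * (A * B * (((A * B)⁻¹ * (B * A)) * A')) := by group
    _ = (A * A' * B)⁻¹ * (A * B * (A' * ((A * B)⁻¹ * (B * A)))) := by rw [h]
    _ = (A * A' * B)⁻¹ * (A * (B * A') * ((A * B)⁻¹ * (B * A))) := by group
    _ = (A * A' * B)⁻¹ * (A * (A' * B * ((A' * B)⁻¹ * (B * A'))) * ((A * B)⁻¹ * (B * A))) := by
      rw [← h2]
    _ = _ := by group

theorem kap_mul_right_aux (A B B' : E)
    (h : B' * ((A * B)⁻¹ * (B * A)) = ((A * B)⁻¹ * (B * A)) * B') :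
    (A * (B * B'))⁻¹ * ((B * B') * A) = ((A * B)⁻¹ * (B * A)) * ((A * B')⁻¹ * (B' * A)) := by
  have h1 : B * A = A * B * ((A * B)⁻¹ * (B * A)) := by group
  have h2 : B' * A = A * B' * ((A * B')⁻¹ * (B' * A)) := by group
  calc (A * (B * B'))⁻¹ * ((B * B') * A) = (A * (B * B'))⁻¹ * (B * (B' * A)) := by group
    _ = (A * (B * B'))⁻¹ * (B * (A * B' * ((A * B')⁻¹ * (B' * A)))) := by rw [← h2]
    _ = (A * (B * B'))⁻¹ * ((B * A) * B' * ((A * B')⁻¹ * (B' * A))) := by group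
    _ = (A * (B * B'))⁻¹ * ((A * B * ((A * B)⁻¹ * (B * A))) * B' * ((A * B')⁻¹ * (B' * A))) := by
      rw [← h1]
    _ = (A * (B * B'))⁻¹ * (A * B * (((A * B)⁻¹ * (B * A)) * B') * ((A * B')⁻¹ * (B' * A))) := by
      group
    _ = (A * (B * B'))⁻¹ * (A * B * (B' * ((A * B)⁻¹ * (B * A))) * ((A * B')⁻¹ * (B' * A))) := by
      rw [h]
    _ = _ := by group

/-- the hypotheses of the `κ`-calculus: two additive families commuting with all `κ(t,u)` -/
structure KapHyp (φa φb : K → E) : Prop where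
  adda : ∀ t t' : K, φa t * φa t' = φa (t + t')
  addb : ∀ u u' : K, φb u * φb u' = φb (u + u')
  ca : ∀ t' t u : K, φa t' * kap φa φb t u = kap φa φb t u * φa t'
  cb : ∀ u' t u : K, φb u' * kap φa φb t u = kap φa φb t u * φb u'

namespace KapHyp

variable (H : KapHyp φa φb)
include H

theorem zero_a : φa 0 = 1 := by
  have := H.adda 0 0
  rw [add_zero] at this
  exact mul_eq_left.mp this

theorem zero_b : φb 0 = 1 := by
  have := H.addb 0 0
  rw [add_zero] at this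
  exact mul_eq_left.mp this

theorem kap_comm (t u t' u' : K) :
    kap φa φb t u * kap φa φb t' u' = kap φa φb t' u' * kap φa φb t u := by
  have h1 : Commute (φa t) (kap φa φb t' u') := H.ca t t' u'
  have h2 : Commute (φb u) (kap φa φb t' u') := H.cb u t' u'
  have : Commute (kap φa φb t u) (kap φa φb t' u') := by
    unfold kap at h1 h2 ⊢
    exact ((h1.mul_left h2).inv_left).mul_left (h2.mul_left h1)
  exact this.eq

theorem kap_add_left (t t' u : K) :
    kap φa φb (t + t') u = kap φa φb t u * kap φa φb t' u := by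
  rw [H.kap_comm t u t' u]
  have := kap_mul_left_aux (φa t) (φa t') (φb u) (H.ca t' t u).symm
  unfold kap
  rw [← H.adda]
  exact this

theorem kap_add_right (t u u' : K) :
    kap φa φb t (u + u') = kap φa φb t u * kap φa φb t u' := by
  have := kap_mul_right_aux (φa t) (φb u) (φb u') (H.cb u' t u)
  unfold kap
  rw [← H.addb]
  exact this

theorem kap_zero_left (u : K) : kap φa φb 0 u = 1 := by
  unfold kap; rw [H.zero_a]; group

theorem kap_zero_right (t : K) : kap φa φb t 0 = 1 := by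
  unfold kap; rw [H.zero_b]; group

theorem kap_neg_left (t u : K) : kap φa φb (-t) u = (kap φa φb t u)⁻¹ := by
  have := H.kap_add_left t (-t) u
  rw [add_neg_cancel, H.kap_zero_left] at this
  exact eq_inv_of_mul_eq_one_right this.symm

theorem kap_neg_right (t u : K) : kap φa φb t (-u) = (kap φa φb t u)⁻¹ := by
  have := H.kap_add_right t u (-u)
  rw [add_neg_cancel, H.kap_zero_right] at this
  exact eq_inv_of_mul_eq_one_right this.symm

/-- over the field with three elements `κ(t,u)` depends on `t u` only -/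
theorem kap_three (hF3 : ∀ x : K, x = 0 ∨ x = 1 ∨ x = -1) (t u : K) :
    kap φa φb t u = kap φa φb (t * u) 1 := by
  rcases hF3 u with rfl | rfl | rfl
  · rw [mul_zero, H.kap_zero_right, H.kap_zero_left]
  · rw [mul_one]
  · rw [mul_neg, mul_one, H.kap_neg_left, H.kap_neg_right]

end KapHyp

/-- generalised `DecP`: `X` commutes with `A`, conjugates `B` to `B M`, and `M` commutes with `A`
and with `κ = (A B)⁻¹ B A`; then `X` commutes with `κ` -/
theorem conj_kap_of (X A B M : E) (hXA : X * A = A * X) (hXB : X * B * X⁻¹ = B * M)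
    (hMA : M * A = A * M) (hMκ : M * ((A * B)⁻¹ * (B * A)) = ((A * B)⁻¹ * (B * A)) * M) :
    X * ((A * B)⁻¹ * (B * A)) = ((A * B)⁻¹ * (B * A)) * X := by
  have hXA' : X * A * X⁻¹ = A := by rw [hXA]; group
  have h1 : X * ((A * B)⁻¹ * (B * A)) * X⁻¹ =
      ((X * A * X⁻¹) * (X * B * X⁻¹))⁻¹ * ((X * B * X⁻¹) * (X * A * X⁻¹)) := by group
  rw [hXA', hXB] at h1
  have h2 : (A * (B * M))⁻¹ * (B * M * A) = M⁻¹ * ((A * B)⁻¹ * (B * A)) * M := by
    calc (A * (B * M))⁻¹ * (B * M * A) = M⁻¹ * (A * B)⁻¹ * (B * (M * A)) := by group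
      _ = M⁻¹ * (A * B)⁻¹ * (B * (A * M)) := by rw [hMA]
      _ = _ := by group
  rw [h2] at h1
  have h3 : M⁻¹ * ((A * B)⁻¹ * (B * A)) * M = (A * B)⁻¹ * (B * A) := by
    rw [mul_assoc, ← hMκ]; group
  rw [h3] at h1
  calc X * ((A * B)⁻¹ * (B * A)) = (X * ((A * B)⁻¹ * (B * A)) * X⁻¹) * X := by group
    _ = _ := by rw [h1]

end kap

/-! ## the new word identity -/

open Cfsg.Agent.Lib.Helper14.StCC.B in
/-- terms `[(q1,C1,1,1),(q2,C2,1,2)]`, scaling `u`, when `φ s` and `φ q1` satisfy a one-term relation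
into `q2` with constant `κ` and `2 C2 + κ C1 = 0` -/
theorem star_shape12U (φ : ℕ → K → E) {s q1 q2 : ℕ} {C1 C2 κ : ℤ} (a1 : AddP φ q1) (a2 : AddP φ q2)
    (c12 : CommP φ q1 q2) (cs2 : CommP φ s q2)
    (o : ∀ x y : K, φ q1 y * φ s x = φ s x * φ q1 y * φ q2 ((κ : K) * (-x) ^ 1 * y ^ 1))
    (hid : 2 * C2 + κ * C1 = 0) (b t u : K) :
    φ s u * tW φ [(q1, C1, 1, 1), (q2, C2, 1, 2)] t (b * u) *
        (tW φ [(q1, C1, 1, 1), (q2, C2, 1, 2)] t u)⁻¹ * (φ s u)⁻¹ =
      tW φ [(q1, C1, 1, 1), (q2, C2, 1, 2)] t ((b - 1) * u) := by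
  simp only [tW_cons, tW_nil, mul_one, mul_inv_rev]
  set A1 := φ q1 ((C1 : K) * (-t) ^ 1 * (b * u) ^ 1) with hA1
  set B1 := φ q2 ((C2 : K) * (-t) ^ 1 * (b * u) ^ 2) with hB1
  set A0 := φ q1 ((C1 : K) * (-t) ^ 1 * u ^ 1) with hA0
  set B0 := φ q2 ((C2 : K) * (-t) ^ 1 * u ^ 2) with hB0
  have hBA : Commute (B1 * B0⁻¹) A0⁻¹ :=
    ((c12.symm.commute _ _).mul_left (c12.symm.commute _ _).inv_left).inv_right
  have e2 : A1 * B1 * (B0⁻¹ * A0⁻¹) = (A1 * A0⁻¹) * (B1 * B0⁻¹) := by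
    calc A1 * B1 * (B0⁻¹ * A0⁻¹) = A1 * ((B1 * B0⁻¹) * A0⁻¹) := by group
      _ = A1 * (A0⁻¹ * (B1 * B0⁻¹)) := by rw [hBA.eq]
      _ = _ := by group
  rw [mul_assoc (φ s u), e2, hA1, hA0, hB1, hB0, a1.mul_inv, a2.mul_inv]
  -- conjugation of `φ q1 y` by `φ s u`
  have hconj : ∀ y : K, φ s u * φ q1 y * (φ s u)⁻¹ = φ q1 y * φ q2 ((κ : K) * u * y) := by
    intro y
    have h1 := o u y
    have h2 : φ s u * φ q1 y = φ q1 y * φ s u * (φ q2 ((κ : K) * (-u) ^ 1 * y ^ 1))⁻¹ := by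
      rw [h1]; group
    rw [h2, a2.inv, mul_assoc (φ q1 y), mul_assoc (φ q1 y), cs2.conj]
    congr 2; ring
  have hσ2 : ∀ z : K, φ s u * φ q2 z * (φ s u)⁻¹ = φ q2 z := fun z => cs2.conj u z
  have e3 : ∀ y z : K, φ s u * (φ q1 y * φ q2 z) * (φ s u)⁻¹ =
      (φ s u * φ q1 y * (φ s u)⁻¹) * (φ s u * φ q2 z * (φ s u)⁻¹) := by
    intro y z; group
  rw [e3, hconj, hσ2, mul_assoc, a2]
  have hidK : 2 * (C2 : K) + (κ : K) * (C1 : K) = 0 := by exact_mod_cast congrArg (Int.cast : ℤ → K) hid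
  congr 2
  · ring
  · linear_combination ((-t) * u ^ 2 * (b - 1)) * hidK

end Cfsg.Agent.Lib.Helper16.B2F3
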