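import Cfsg.Agent.Lib.Helper16.B2F3.Tab
import Cfsg.Agent.Lib.Helper16.StCCB.Trick
import Cfsg.Agent.Lib.Helper20.StCCBB0
import Cfsg.Agent.Lib.Helper14.StCC.SectionCore
import Cfsg.Agent.S2395

/-!
# S2400, case `B₂` over the field with three elements

Every central extension of the group of type `B₂` presented by (R1), (R2) over the field with three
elements splits.  The torus `{±1}²` inverts the short root groups and centralises the long ones, so
* the short roots get the canonical lifts `[h̃, x̃]` (the root groups are cyclic, lifts commute);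
* the long roots get the lifts `φ_q(w) = κ(-w/N, 1)`, `κ(t,u) = (φ_a t φ_b u)⁻¹ φ_b u φ_a t` for the
  decomposition `q = a + b` into short roots; `κ` is biadditive because every lift of `x_q`
  commutes with `φ_a`, `φ_b` (torus: centralises `x_q`, inverts `x_a`);
* (R2): short–short by construction, long–short with terms by the torus trick with a new word
  identity, the reversed pairs algebraically, long–long by a conjugation argument.
-/

set_option autoImplicit false

namespace Cfsg.Agent.Lib.Helper16.B2F3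

open Cfsg.Lie Cfsg.Agent.Lib.Helper8.Chev Cfsg.Agent.Lib.Helper14.StCC
open Cfsg.Agent.Lib.Helper14.StCC.B
open Cfsg.Agent.Lib.Helper14.StCC.A.Helper27 (b2Long exists_wt_one)

variable {K : Type*} [Field K] {Γ : Type*} [Group Γ] {E : Type*} [Group E]

theorem hD_B2 : chevB2 ∈ [chevG2, chevB2, chevD4, chevF4, chevE6, chevE7, chevE8] := by simp

/-- the lifts and the relations (R2) -/
theorem exists_rootLift_comm_three (S : StRep chevB2 K Γ)
    (hF3 : ∀ x : K, x = 0 ∨ x = 1 ∨ x = -1) (h2 : (2 : K) ≠ 0)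
    (hperf : commutator Γ = ⊤) (ψ : E →* Γ) (hψ : Function.Surjective ψ)
    (hc : ψ.ker ≤ Subgroup.center E) :
    ∃ L : RootLift S ψ, ∀ r < chevB2.nroots, ∀ s < chevB2.nroots, s ≠ r → s ≠ chevB2.neg r →
      ∀ t u : K, L.φ s u * L.φ r t = L.φ r t * L.φ s u * wS L.φ (chevB2.commWord K r s t u) := by
  classical
  have hv0 : (-1 : K) ≠ 0 := by simp
  have hv1 : (-1 : K) ≠ 1 := by
    intro h
    apply h2
    have e : (2 : K) = 1 - (-1) := by ring
    rw [e, h, sub_self]
  have hvi : ((-1 : K))⁻¹ ≠ 1 := by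
    intro h; apply hv1; rw [← inv_inv (-1 : K), h, inv_one]
  -- the short roots
  obtain ⟨φ0, hmap0, hadd0, hequiv0⟩ := exists_partial_rootLift S hperf ψ hψ hc
    (fun r => r ∉ b2Long)
    (fun r hr _ => lifts_commute_three S hF3 ψ hc hr)
    (fun r hr hP => by
      obtain ⟨m, hm⟩ := exists_wt_one hD_B2 hr (fun _ => hP)
      exact ⟨m, -1, hv0, by rw [hm, zpow_one]; exact hv1⟩)
  -- the relation in `Γ`
  have hrelΓ : ∀ q ∈ b2Long, ∀ t u : K,
      (S.x (decA q) t * S.x (decB q) u)⁻¹ * (S.x (decB q) u * S.x (decA q) t) =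
        S.x q ((decN q : K) * (-t) ^ 1 * u ^ 1) := by
    intro q hq t u
    obtain ⟨ha, hb, _, _, _, hba, hbna, hT, _⟩ := longTab q hq
    have := S.comm (decA q) ha (decB q) hb hba hbna t u
    rw [ChevalleyDatum.commWord, hT] at this
    simp only [List.map_cons, List.map_nil, wS_cons, wS_nil, mul_one] at this
    rw [this]
    group
  have hψκ : ∀ q ∈ b2Long, ∀ t u : K, ψ (kap (φ0 (decA q)) (φ0 (decB q)) t u) =
      S.x q ((decN q : K) * (-t) ^ 1 * u ^ 1) := by
    intro q hq t u
    obtain ⟨ha, hb, _, hPa, hPb, _⟩ := longTab q hq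
    unfold kap
    rw [map_mul, map_inv, map_mul, map_mul, hmap0 _ ha hPa, hmap0 _ hb hPb, hrelΓ q hq]
  have hN0 : ∀ q ∈ b2Long, (decN q : K) ≠ 0 := by
    intro q hq
    obtain ⟨_, _, _, _, _, _, _, _, _, hN, _⟩ := longTab q hq
    rcases hN with h | h <;> rw [h]
    · exact_mod_cast h2
    · rw [Int.cast_neg]; exact neg_ne_zero.mpr (by exact_mod_cast h2)
  -- lifts of the summands commute with every lift of `x_q`
  have hsum : ∀ q ∈ b2Long, ∀ (A : E) (w : K), ψ A = S.x q w →
      (∀ y : K, A * φ0 (decA q) y = φ0 (decA q) y * A) ∧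
      (∀ y : K, A * φ0 (decB q) y = φ0 (decB q) y * A) := by
    intro q hq A w hA
    obtain ⟨ha, hb, hq8, hPa, hPb, _, _, _, _, _, haq, hanq, hTa, hbq, hbnq, hTb, hta, htb, _⟩ :=
      longTab q hq
    have nil : ∀ s < chevB2.nroots, s ≠ q → s ≠ chevB2.neg q → chevB2.commTerms q s = [] →
        ∀ t u : K, S.x q t * S.x s u = S.x s u * S.x q t := by
      intro s hs h1 h2' hT t u
      have := S.comm q hq8 s hs h1 h2' t u
      rw [ChevalleyDatum.commWord, hT] at this
      simpa using this.symm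
    have tool : ∀ s < chevB2.nroots, s ≠ q → s ≠ chevB2.neg q → chevB2.commTerms q s = [] →
        Tool1 q s → ∀ y : K, ψ (φ0 s y) = S.x s y → A * φ0 s y = φ0 s y * A := by
      intro s hs h1 h2' hT ht y hy
      obtain ⟨m, hm0, hm⟩ := ht.exists
      refine lifts_commute_pair_of_torus S ψ hψ hc hq8 hs (nil s hs h1 h2' hT) m hm0 hv0 ?_
        A (φ0 s y) w y hA hy
      rcases hm with h | h <;> rw [h]
      · rw [zpow_one]; exact hv1
      · rw [zpow_neg, zpow_one]; exact hvi
    exact ⟨fun y => tool _ ha haq hanq hTa hta y (hmap0 _ ha hPa y),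
      fun y => tool _ hb hbq hbnq hTb htb y (hmap0 _ hb hPb y)⟩
  have hH : ∀ q ∈ b2Long, KapHyp (φ0 (decA q)) (φ0 (decB q)) := by
    intro q hq
    obtain ⟨ha, hb, _, hPa, hPb, _⟩ := longTab q hq
    exact ⟨hadd0 _ ha hPa, hadd0 _ hb hPb,
      fun t' t u => ((hsum q hq _ _ (hψκ q hq t u)).1 t').symm,
      fun u' t u => ((hsum q hq _ _ (hψκ q hq t u)).2 u').symm⟩
  -- the lifts
  let φ : ℕ → K → E := fun r w =>
    if r ∈ b2Long then kap (φ0 (decA r)) (φ0 (decB r)) (-w / (decN r : K)) 1 else φ0 r w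
  have hφL : ∀ q ∈ b2Long, ∀ w : K,
      φ q w = kap (φ0 (decA q)) (φ0 (decB q)) (-w / (decN q : K)) 1 := by
    intro q hq w
    simp only [φ, if_pos hq]
  have hφS : ∀ r, r ∉ b2Long → ∀ w : K, φ r w = φ0 r w := by
    intro r hr w
    simp only [φ, if_neg hr]
  -- conjugation of `κ`
  have hconjκ : ∀ (g : E) (φa φb : K → E) (t u : K), g * kap φa φb t u * g⁻¹ =
      ((g * φa t * g⁻¹) * (g * φb u * g⁻¹))⁻¹ * ((g * φb u * g⁻¹) * (g * φa t * g⁻¹)) := by
    intro g φa φb t u
    unfold kap
    group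
  let L : RootLift S ψ :=
    { φ := φ
      map := by
        intro r hr t
        by_cases hl : r ∈ b2Long
        · rw [hφL r hl, hψκ r hl]
          congr 1
          have := hN0 r hl
          field_simp
        · rw [hφS r hl]
          exact hmap0 r hr hl t
      add := by
        intro r hr t u
        by_cases hl : r ∈ b2Long
        · rw [hφL r hl, hφL r hl, hφL r hl, ← (hH r hl).kap_add_left]
          congr 1
          ring
        · rw [hφS r hl, hφS r hl, hφS r hl]
          exact hadd0 r hr hl t u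
      equiv := by
        intro g f hg hf s hs u
        by_cases hl : s ∈ b2Long
        · obtain ⟨ha, hb, _, hPa, hPb, _⟩ := longTab s hl
          -- `f s = f a * f b`
          have hfs : f s = f (decA s) * f (decB s) := by
            have h1 := hrelΓ s hl 1 1
            have h3 : ψ g * S.x s ((decN s : K) * (-1) ^ 1 * 1 ^ 1) * (ψ g)⁻¹ =
                ((ψ g * S.x (decA s) 1 * (ψ g)⁻¹) * (ψ g * S.x (decB s) 1 * (ψ g)⁻¹))⁻¹ *
                ((ψ g * S.x (decB s) 1 * (ψ g)⁻¹) * (ψ g * S.x (decA s) 1 * (ψ g)⁻¹)) := by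
              rw [← h1]; group
            rw [hf s hs, hf _ ha, hf _ hb, hrelΓ s hl] at h3
            have e := S.x_inj_param hs (congrArg S.θ h3)
            have hN := hN0 s hl
            have e2 : (f s - f (decA s) * f (decB s)) * (decN s : K) = 0 := by
              linear_combination (-1 : K) * e
            rcases mul_eq_zero.mp e2 with h | h
            · exact sub_eq_zero.mp h
            · exact absurd h hN
          rw [hφL s hl, hφL s hl, hconjκ, hequiv0 g f hg hf _ ha hPa, hequiv0 g f hg hf _ hb hPb]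
          change kap (φ0 (decA s)) (φ0 (decB s)) (f (decA s) * (-u / (decN s : K)))
            (f (decB s) * 1) = _
          rw [(hH s hl).kap_three hF3]
          congr 1
          rw [hfs]
          ring
        · rw [hφS s hl, hφS s hl]
          exact hequiv0 g f hg hf s hs hl u }
  refine ⟨L, ?_⟩
  have hLφ : L.φ = φ := rfl
  rw [hLφ]
  have addP : ∀ q < chevB2.nroots, AddP φ q := fun q hq => L.add q hq
  have hcentral : ∀ c : E, ψ c = 1 → ∀ x : E, x * c = c * x := by
    intro c hc1 x
    have := hc (MonoidHom.mem_ker.mpr hc1)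
    rw [Subgroup.mem_center_iff] at this
    exact this x
  -- F2: a long root commutes with its summands
  have F2 : ∀ q ∈ b2Long, CommP φ q (decA q) ∧ CommP φ q (decB q) := by
    intro q hq
    obtain ⟨_, _, _, hPa, hPb, _⟩ := longTab q hq
    constructor
    · intro x y
      rw [hφL q hq, hφS _ hPa]
      exact ((hH q hq).ca y _ _).symm
    · intro x y
      rw [hφL q hq, hφS _ hPb]
      exact ((hH q hq).cb y _ _).symm
  -- F3: (R2) for the two short summands of a long root, both orders
  have F3a : ∀ q ∈ b2Long, ∀ x y : K, φ (decB q) y * φ (decA q) x =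
      φ (decA q) x * φ (decB q) y * φ q ((decN q : K) * (-x) ^ 1 * y ^ 1) := by
    intro q hq x y
    obtain ⟨_, _, _, hPa, hPb, _⟩ := longTab q hq
    have hN := hN0 q hq
    rw [hφL q hq, hφS _ hPa, hφS _ hPb, kap_spec (φ0 (decA q)) (φ0 (decB q)) x y,
      (hH q hq).kap_three hF3 x y]
    congr 2
    field_simp
  have F3b : ∀ q ∈ b2Long, ∀ x y : K, φ (decA q) y * φ (decB q) x =
      φ (decB q) x * φ (decA q) y * φ q (((-decN q : ℤ) : K) * (-x) ^ 1 * y ^ 1) := by
    intro q hq x y
    obtain ⟨_, _, _, hPa, hPb, _⟩ := longTab q hq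
    have hN := hN0 q hq
    have h1 := kap_spec (φ0 (decA q)) (φ0 (decB q)) y x
    have h2' : φ0 (decA q) y * φ0 (decB q) x =
        φ0 (decB q) x * φ0 (decA q) y * (kap (φ0 (decA q)) (φ0 (decB q)) y x)⁻¹ := by
      rw [h1]; group
    rw [hφL q hq, hφS _ hPa, hφS _ hPb, h2', ← (hH q hq).kap_neg_left,
      (hH q hq).kap_three hF3 (-y) x]
    congr 2
    rw [Int.cast_neg]
    field_simp
  -- case T: long `r`, short `s`, two terms
  have caseT : ∀ r < chevB2.nroots, ∀ s < chevB2.nroots, s ≠ r → s ≠ chevB2.neg r → ClassT r s →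
      ∀ t u : K, φ s u * φ r t = φ r t * φ s u * wS φ (chevB2.commWord K r s t u) := by
    intro r hr s hs h1 h2' hcl
    obtain ⟨_, q1, hq1, q2, hq2, C1, _, C2, _, κ, _, hT, _, hsq, hid, htool⟩ := hcl
    obtain ⟨m, hm0, hm⟩ := htool.exists
    obtain ⟨_, _, hq28, _⟩ := longTab q2 hq2
    have hb : (-1 : K) ^ wt chevB2 m s ≠ 1 := by
      rcases hm with h | h <;> rw [h]
      · rw [zpow_one]; exact hv1
      · rw [zpow_neg, zpow_one]; exact hvi
    refine comm_of_star S ψ hψ hc L hr hs h1 h2' m hm0 hv0 hb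
      (fun c hc' => wt_commTerms S.hD m hr hs h1 h2' hc') ?_
    intro t u
    rw [hT]
    rcases hsq with ⟨rfl, rfl, rfl⟩ | ⟨rfl, rfl, rfl⟩
    · obtain ⟨_, hb8, _⟩ := longTab q2 hq2
      exact star_shape12U φ (addP _ hb8) (addP _ hq28) (F2 q2 hq2).2.symm (F2 q2 hq2).1.symm
        (F3a q2 hq2) hid _ t u
    · obtain ⟨ha8, _, _⟩ := longTab q2 hq2
      exact star_shape12U φ (addP _ ha8) (addP _ hq28) (F2 q2 hq2).1.symm (F2 q2 hq2).2.symm
        (F3b q2 hq2) hid _ t u
  -- case LL: two orthogonal long roots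
  have caseLL : ∀ r ∈ b2Long, ∀ s ∈ b2Long, ClassLL r s → CommP φ r s := by
    intro r hrL s hsL hcl x y
    obtain ⟨C1, _, C2, _, hT, hsum', hbr, hbnr⟩ := hcl
    obtain ⟨_, _, hr8, _⟩ := longTab r hrL
    obtain ⟨ha8, hb8, hs8, hPa, hPb, _⟩ := longTab s hsL
    -- `φ r` commutes with `φ (decA s)`
    have hra : CommP φ r (decA s) := by
      rcases hsum' with h | h <;> rw [h]
      · exact (F2 r hrL).1
      · exact (F2 r hrL).2
    -- the relation for `(r, decB s)` up to a central element
    obtain ⟨c, hcz, hrel⟩ := defect_central hc L hr8 hb8 hbr hbnr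
      (fun c hc' => (wt_commTerms S.hD (fun _ => 0) hr8 hb8 hbr hbnr hc').1) x 1
    rw [hT, hLφ] at hrel
    simp only [tW_cons, tW_nil, mul_one] at hrel
    set Q1 := φ (decA s) ((C1 : K) * (-x) ^ 1 * (1 : K) ^ 1) with hQ1
    set Q2 := φ s ((C2 : K) * (-x) ^ 1 * (1 : K) ^ 2) with hQ2
    have hX : (φ r x)⁻¹ * kap (φ0 (decA s)) (φ0 (decB s)) (-y / (decN s : K)) 1 =
        kap (φ0 (decA s)) (φ0 (decB s)) (-y / (decN s : K)) 1 * (φ r x)⁻¹ := by
      unfold kap
      apply conj_kap_of ((φ r x)⁻¹) (φ0 (decA s) (-y / (decN s : K))) (φ0 (decB s) 1)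
        (Q1 * Q2 * c)
      · -- `X A = A X`
        have := hra x (-y / (decN s : K))
        rw [hφS _ hPa] at this
        exact ((Commute.inv_left (show Commute (φ r x) _ from this))).eq
      · -- `X B X⁻¹ = B M`
        rw [hφS _ hPb] at hrel
        rw [inv_inv]
        calc (φ r x)⁻¹ * φ0 (decB s) 1 * φ r x = (φ r x)⁻¹ * (φ0 (decB s) 1 * φ r x) := by group
          _ = (φ r x)⁻¹ * (φ r x * φ0 (decB s) 1 * (Q1 * Q2) * c) := by rw [hrel]
          _ = _ := by group
      · -- `M A = A M`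
        have h1 : Commute Q1 (φ0 (decA s) (-y / (decN s : K))) := by
          rw [hQ1, hφS _ hPa]
          show _ * _ = _ * _
          rw [hadd0 _ ha8 hPa, hadd0 _ ha8 hPa, add_comm]
        have h2' : Commute Q2 (φ0 (decA s) (-y / (decN s : K))) := by
          have := (F2 s hsL).1 ((C2 : K) * (-x) ^ 1 * (1 : K) ^ 2) (-y / (decN s : K))
          rw [hφS _ hPa] at this
          exact this
        have h3 : Commute c (φ0 (decA s) (-y / (decN s : K))) := (hcz _).symm
        exact ((h1.mul_left h2').mul_left h3).eq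
      · -- `M κ = κ M`
        have hk : ∀ z : E, (∀ t' : K, Commute z (φ0 (decA s) t')) →
            (∀ u' : K, Commute z (φ0 (decB s) u')) →
            Commute z ((φ0 (decA s) (-y / (decN s : K)) * φ0 (decB s) 1)⁻¹ *
              (φ0 (decB s) 1 * φ0 (decA s) (-y / (decN s : K)))) := by
          intro z hza hzb
          exact ((hza _).mul_right (hzb _)).inv_right.mul_right ((hzb _).mul_right (hza _))
        have h1 : Commute Q1 ((φ0 (decA s) (-y / (decN s : K)) * φ0 (decB s) 1)⁻¹ *
              (φ0 (decB s) 1 * φ0 (decA s) (-y / (decN s : K)))) := by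
          have := (hH s hsL).ca ((C1 : K) * (-x) ^ 1 * (1 : K) ^ 1) (-y / (decN s : K)) 1
          rw [hQ1, hφS _ hPa]
          exact this
        have h2' : Commute Q2 ((φ0 (decA s) (-y / (decN s : K)) * φ0 (decB s) 1)⁻¹ *
              (φ0 (decB s) 1 * φ0 (decA s) (-y / (decN s : K)))) := by
          rw [hQ2, hφL s hsL]
          exact (hH s hsL).kap_comm _ _ _ _
        have h3 : Commute c ((φ0 (decA s) (-y / (decN s : K)) * φ0 (decB s) 1)⁻¹ *
              (φ0 (decB s) 1 * φ0 (decA s) (-y / (decN s : K)))) := (hcz _).symm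
        exact ((h1.mul_left h2').mul_left h3).eq
    rw [hφL s hsL]
    exact ((Commute.inv_left_iff).mp (show Commute (φ r x)⁻¹ _ from hX)).eq
  -- nil pairs: (R2) from `CommP`
  have ofComm : ∀ r s : ℕ, chevB2.commTerms r s = [] → CommP φ r s → ∀ t u : K,
      φ s u * φ r t = φ r t * φ s u * wS φ (chevB2.commWord K r s t u) := by
    intro r s hT hcomm t u
    rw [wS_commWord, hT, tW_nil, mul_one]
    exact (hcomm t u).symm
  -- the dispatcher
  intro r hr s hs h1 h2' t u
  rcases pairClass_check r hr s hs with h | h | hcl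
  · exact absurd h h1
  · exact absurd h h2'
  unfold PairClass at hcl
  rcases hcl with ⟨q, hq, (⟨rfl, rfl⟩ | ⟨rfl, rfl⟩)⟩ | ⟨hrL, (rfl | rfl)⟩ | ⟨hsL, (rfl | rfl)⟩ |
    hT | hT | ⟨hrL, hsL, hT1, hT2, (hLL | hLL)⟩
  · -- short, short
    obtain ⟨_, _, _, _, _, _, _, hT, _⟩ := longTab q hq
    rw [wS_commWord, hT, tW_cons, tW_nil, mul_one]
    exact F3a q hq t u
  · obtain ⟨_, _, _, _, _, _, _, _, hT, _⟩ := longTab q hq
    rw [wS_commWord, hT, tW_cons, tW_nil, mul_one]
    exact F3b q hq t u
  · -- long and summand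
    obtain ⟨_, _, _, _, _, _, _, _, _, _, _, _, hTa, _⟩ := longTab r hrL
    exact ofComm _ _ hTa (F2 r hrL).1 t u
  · obtain ⟨_, _, _, _, _, _, _, _, _, _, _, _, _, _, _, hTb, _⟩ := longTab r hrL
    exact ofComm _ _ hTb (F2 r hrL).2 t u
  · obtain ⟨_, _, _, _, _, _, _, _, _, _, _, _, _, _, _, _, _, _, hTa, _⟩ := longTab s hsL
    exact ofComm _ _ hTa (F2 s hsL).1.symm t u
  · obtain ⟨_, _, _, _, _, _, _, _, _, _, _, _, _, _, _, _, _, _, _, hTb, _⟩ := longTab s hsL
    exact ofComm _ _ hTb (F2 s hsL).2.symm t u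
  · -- long, short with terms
    exact caseT r hr s hs h1 h2' hT t u
  · -- short, long with terms: reverse the relation of `(s, r)`
    have h1' : r ≠ s := fun h => h1 h.symm
    have h2'' : r ≠ chevB2.neg s := by
      intro h
      apply h2'
      rw [h, (valid0_of_mem S.hD).neg_neg hs]
    have hrev := caseT s hs r hr h1' h2'' hT u t
    obtain ⟨hsL, q1, hq1, q2, hq2, C1, _, C2, _, κ, _, hTsr, hTrs, hsq, _, _⟩ := hT
    obtain ⟨_, _, hq28, _⟩ := longTab q2 hq2
    rw [wS_commWord, hTsr] at hrev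
    rw [wS_commWord, hTrs]
    simp only [tW_cons, tW_nil, mul_one] at hrev ⊢
    -- `q1` and `q2` commute
    have c12 : CommP φ q1 q2 := by
      rcases hsq with ⟨_, rfl, _⟩ | ⟨_, rfl, _⟩
      · exact (F2 q2 hq2).2.symm
      · exact (F2 q2 hq2).1.symm
    have a1 := addP q1 hq1
    have a2 := addP q2 hq28
    have e1 : φ s u * φ r t = φ r t * φ s u *
        (φ q1 ((C1 : K) * (-u) ^ 1 * t ^ 1) * φ q2 ((C2 : K) * (-u) ^ 1 * t ^ 2))⁻¹ := by
      rw [hrev]; group
    rw [e1, mul_inv_rev, a1.inv, a2.inv, ← (c12 _ _)]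
    congr 2
    · rw [Int.cast_neg]; ring_nf
    · ring_nf
  · -- long, long
    exact ofComm _ _ hT1 (caseLL r hrL s hsL hLL) t u
  · exact ofComm _ _ hT1 (caseLL s hsL r hrL hLL).symm t u

/-- every central extension of the group of type `B₂` presented by (R1), (R2) over a field whose
elements are `0, 1, -1` with `2 ≠ 0` (the field with three elements) splits -/
theorem exists_section_B2_three_core (hF3 : ∀ x : K, x = 0 ∨ x = 1 ∨ x = -1) (h2 : (2 : K) ≠ 0)
    (ψ : E →* chevB2.SteinbergCover K)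
    (hψ : Function.Surjective ψ) (hc : ψ.ker ≤ Subgroup.center E) :
    ∃ τ : chevB2.SteinbergCover K →* E, ψ.comp τ = MonoidHom.id _ := by
  have hK3 : ∃ c : K, c ≠ 0 ∧ c ≠ 1 := by
    refine ⟨-1, by simp, ?_⟩
    intro h
    apply h2
    have e : (2 : K) = 1 - (-1) := by ring
    rw [e, h, sub_self]
  have hperf : commutator (chevB2.SteinbergCover K) = ⊤ :=
    Cfsg.Agent.S2395.result chevB2 hD_B2 (fun _ => hK3)
  obtain ⟨L, hcomm⟩ := exists_rootLift_comm_three
    (scRepOf hD_B2 (scHom hD_B2 K) (fun r t hr => scHom_scGen hD_B2 r t hr)) hF3 h2 hperf ψ hψ hc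
  exact exists_section_of hD_B2 ψ L hcomm

/-- the elements of a field with three elements are `0, 1, -1`, and `2 ≠ 0` -/
theorem field_three {K : Type*} [Field K] [Fintype K] (hK : Fintype.card K = 3) :
    (∀ x : K, x = 0 ∨ x = 1 ∨ x = -1) ∧ (2 : K) ≠ 0 := by
  classical
  have h2 : (2 : K) ≠ 0 := by
    intro h
    -- characteristic `2` forces the cardinality to be a power of `2`
    obtain ⟨n, hp, hn⟩ := FiniteField.card K (ringChar K)
    rw [hK] at hn
    have hdvd : ringChar K ∣ 3 := by
      rw [hn]; exact dvd_pow_self _ n.ne_zero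
    have h3 : ringChar K = 3 := (Nat.prime_dvd_prime_iff_eq hp Nat.prime_three).mp hdvd
    have h4 : ringChar K ∣ 2 := by
      apply ringChar.dvd
      exact_mod_cast h
    rw [h3] at h4
    omega
  have hne : (-1 : K) ≠ 1 := by
    intro h
    apply h2
    have e : (2 : K) = 1 - (-1) := by ring
    rw [e, h, sub_self]
  refine ⟨?_, h2⟩
  intro x
  by_contra hcon
  rw [not_or, not_or] at hcon
  obtain ⟨hx0, hx1, hxm⟩ := hcon
  have hsub : ({0, 1, -1, x} : Finset K) ⊆ Finset.univ := Finset.subset_univ _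
  have hcard : ({0, 1, -1, x} : Finset K).card = 4 := by
    rw [Finset.card_insert_of_notMem, Finset.card_insert_of_notMem, Finset.card_insert_of_notMem,
      Finset.card_singleton]
    · simp only [Finset.mem_singleton]; exact fun h => hxm h.symm
    · simp only [Finset.mem_insert, Finset.mem_singleton, not_or]
      exact ⟨fun h => hne h.symm, fun h => hx1 h.symm⟩
    · simp only [Finset.mem_insert, Finset.mem_singleton, not_or]
      exact ⟨zero_ne_one, fun h => by simp at h, fun h => hx0 h.symm⟩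
  have := Finset.card_le_card hsub
  rw [hcard, Finset.card_univ, hK] at this
  omega

/-- S2400, the case `B₂` over the field with three elements: every central extension of the group
presented by (R1), (R2) splits -/
theorem exists_section_B2_three {K : Type*} [Field K] [Fintype K] (hK : Fintype.card K = 3)
    {E : Type*} [Group E] (ψ : E →* chevB2.SteinbergCover K)
    (hψ : Function.Surjective ψ) (hc : ψ.ker ≤ Subgroup.center E) :
    ∃ τ : chevB2.SteinbergCover K →* E, ψ.comp τ = MonoidHom.id _ :=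
  exists_section_B2_three_core (field_three hK).1 (field_three hK).2 ψ hψ hc

end Cfsg.Agent.Lib.Helper16.B2F3
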