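import Cfsg.Agent.Lib.Helper16.B2F3.Gen
import Cfsg.Agent.Lib.Helper27.StCCTab

/-!
# S2400, case `B₂` over the field with three elements: the tables

Roots of `chevB2`: long `0, 3, 4, 7`, short `1, 2, 5, 6`, `neg r = 7 - r`.  Every long root `q` is
the sum of two orthogonal short roots `decA q`, `decB q` (structure constant `decN q = ±2`).
-/

set_option autoImplicit false

namespace Cfsg.Agent.Lib.Helper16.B2F3

open Cfsg.Lie Cfsg.Agent.Lib.Helper8.Chev Cfsg.Agent.Lib.Helper14.StCC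
open Cfsg.Agent.Lib.Helper14.StCC.A.Helper27 (b2Long)

/-- first summand of the long root `q` -/
def decA : ℕ → ℕ
  | 0 => 1 | 3 => 5 | 4 => 2 | 7 => 6 | _ => 0

/-- second summand of the long root `q` -/
def decB : ℕ → ℕ
  | 0 => 2 | 3 => 1 | 4 => 6 | 7 => 5 | _ => 0

/-- the structure constant: `commTerms (decA q) (decB q) = [(q, decN q, 1, 1)]` -/
def decN : ℕ → ℤ
  | 0 => 2 | 3 => 2 | 4 => -2 | 7 => -2 | _ => 1

/-- the coweight with coordinates `(a, b)` -/
def mk2 (a b : ℤ) : ℕ → ℤ := fun i => if i = 0 then a else if i = 1 then b else 0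

/-- a coweight orthogonal to `r` with value `±1` on `s` (bounded search) -/
def Tool1 (r s : ℕ) : Prop :=
  ∃ a ∈ ([-2, -1, 0, 1, 2] : List ℤ), ∃ b ∈ ([-2, -1, 0, 1, 2] : List ℤ),
    wt chevB2 (mk2 a b) r = 0 ∧ (wt chevB2 (mk2 a b) s = 1 ∨ wt chevB2 (mk2 a b) s = -1)

instance (r s : ℕ) : Decidable (Tool1 r s) := by unfold Tool1; infer_instance

theorem Tool1.exists {r s : ℕ} (h : Tool1 r s) :
    ∃ m : ℕ → ℤ, wt chevB2 m r = 0 ∧ (wt chevB2 m s = 1 ∨ wt chevB2 m s = -1) := by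
  obtain ⟨a, _, b, _, h⟩ := h
  exact ⟨mk2 a b, h⟩

set_option maxRecDepth 1000000 in
/-- the facts about the decomposition of a long root -/
theorem longTab : ∀ q ∈ b2Long,
    decA q < 8 ∧ decB q < 8 ∧ q < 8 ∧ decA q ∉ b2Long ∧ decB q ∉ b2Long ∧ decB q ≠ decA q ∧
    decB q ≠ chevB2.neg (decA q) ∧
    chevB2.commTerms (decA q) (decB q) = [(q, decN q, 1, 1)] ∧
    chevB2.commTerms (decB q) (decA q) = [(q, -decN q, 1, 1)] ∧ (decN q = 2 ∨ decN q = -2) ∧
    decA q ≠ q ∧ decA q ≠ chevB2.neg q ∧ chevB2.commTerms q (decA q) = [] ∧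
    decB q ≠ q ∧ decB q ≠ chevB2.neg q ∧ chevB2.commTerms q (decB q) = [] ∧
    Tool1 q (decA q) ∧ Tool1 q (decB q) ∧
    chevB2.commTerms (decA q) q = [] ∧ chevB2.commTerms (decB q) q = [] ∧
    q ≠ decA q ∧ q ≠ chevB2.neg (decA q) ∧ q ≠ decB q ∧ q ≠ chevB2.neg (decB q) := by
  decide +kernel

/-- short, short -/
def ClassSS (r s : ℕ) : Prop :=
  ∃ q ∈ b2Long, (r = decA q ∧ s = decB q) ∨ (r = decB q ∧ s = decA q)

instance (r s : ℕ) : Decidable (ClassSS r s) := by unfold ClassSS; infer_instance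

/-- long `r`, short `s`, with terms -/
def ClassT (r s : ℕ) : Prop :=
  r ∈ b2Long ∧ ∃ q1 < 8, ∃ q2 ∈ b2Long, ∃ C1 ∈ ([-2, -1, 1, 2] : List ℤ),
    ∃ C2 ∈ ([-2, -1, 1, 2] : List ℤ), ∃ κ ∈ ([-2, 2] : List ℤ),
    chevB2.commTerms r s = [(q1, C1, 1, 1), (q2, C2, 1, 2)] ∧
    chevB2.commTerms s r = [(q1, -C1, 1, 1), (q2, C2, 2, 1)] ∧
    ((s = decA q2 ∧ q1 = decB q2 ∧ κ = decN q2) ∨ (s = decB q2 ∧ q1 = decA q2 ∧ κ = -decN q2)) ∧
    2 * C2 + κ * C1 = 0 ∧ Tool1 r s

set_option synthInstance.maxSize 4000 in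
set_option synthInstance.maxHeartbeats 400000 in
instance (r s : ℕ) : Decidable (ClassT r s) := by unfold ClassT; infer_instance

/-- long, long (orthogonal), oriented: the first summand of `s` is a summand of `r` -/
def ClassLL (r s : ℕ) : Prop :=
  ∃ C1 ∈ ([-2, -1, 1, 2] : List ℤ), ∃ C2 ∈ ([-2, -1, 1, 2] : List ℤ),
    chevB2.commTerms r (decB s) = [(decA s, C1, 1, 1), (s, C2, 1, 2)] ∧
    (decA s = decA r ∨ decA s = decB r) ∧ decB s ≠ r ∧ decB s ≠ chevB2.neg r

set_option synthInstance.maxSize 4000 in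
set_option synthInstance.maxHeartbeats 400000 in
instance (r s : ℕ) : Decidable (ClassLL r s) := by unfold ClassLL; infer_instance

/-- the classification of the admissible ordered pairs of roots of `B₂` -/
def PairClass (r s : ℕ) : Prop :=
  ClassSS r s ∨
  -- long `r` and one of its summands (either order)
  (r ∈ b2Long ∧ (s = decA r ∨ s = decB r)) ∨ (s ∈ b2Long ∧ (r = decA s ∨ r = decB s)) ∨
  ClassT r s ∨ ClassT s r ∨
  (r ∈ b2Long ∧ s ∈ b2Long ∧ chevB2.commTerms r s = [] ∧ chevB2.commTerms s r = [] ∧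
    (ClassLL r s ∨ ClassLL s r))

set_option synthInstance.maxSize 4000 in
set_option synthInstance.maxHeartbeats 400000 in
instance (r s : ℕ) : Decidable (PairClass r s) := by unfold PairClass; infer_instance

set_option maxRecDepth 1000000 in
theorem pairClass_check : ∀ r < 8, ∀ s < 8, s = r ∨ s = chevB2.neg r ∨ PairClass r s := by
  decide +kernel

end Cfsg.Agent.Lib.Helper16.B2F3
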